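import Cfsg.Agent.Lib.Solv.SZ
import Cfsg.Agent.Lib.Solv.Coprime

/-!
Glauberman's fixed point lemma for a coprime action.
-/

set_option autoImplicit false

namespace Cfsg.Agent.EquivQuad

open scoped Pointwise

/-- Two groups of coprime order, one normalising the other and one of them solvable: an orbit of the
normal one that is invariant under the other contains a fixed point. -/
theorem exists_fixed {Γ Ω : Type*} [Group Γ] [Finite Γ] (ρ : Γ →* Equiv.Perm Ω) (X S : Subgroup Γ)
    (hn : S ≤ Subgroup.normalizer (X : Set Γ)) (hco : (Nat.card X).Coprime (Nat.card S))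
    (hsol : Group.IsSolvable X ∨ Group.IsSolvable S) (ω : Ω) (htr : ∀ s ∈ S, ∃ x ∈ X, ρ x ω = ρ s ω) :
    ∃ x ∈ X, ∀ s ∈ S, ρ s (ρ x ω) = ρ x ω := by
  let St : Subgroup Γ :=
    { carrier := {g | ρ g ω = ω}
      one_mem' := by simp
      mul_mem' := fun {a b} ha hb => by
        show ρ (a * b) ω = ω
        rw [map_mul, Equiv.Perm.mul_apply, hb, ha]
      inv_mem' := fun {a} ha => by
        show ρ a⁻¹ ω = ω
        rw [map_inv]
        conv_lhs => rw [← ha]
        exact (ρ a).symm_apply_apply ω }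
  set R := St ⊓ (X ⊔ S) with hR
  have hRX : R ≤ Subgroup.normalizer (X : Set Γ) := inf_le_right.trans (sup_le Subgroup.le_normalizer hn)
  have hXR : X ⊔ R = X ⊔ S := by
    refine le_antisymm (sup_le le_sup_left inf_le_right) (sup_le le_sup_left fun s hs => ?_)
    obtain ⟨x, hx, hxe⟩ := htr s hs
    have hxs : x⁻¹ * s ∈ R := by
      refine ⟨?_, mul_mem (Subgroup.mem_sup_left (inv_mem hx)) (Subgroup.mem_sup_right hs)⟩
      show ρ (x⁻¹ * s) ω = ω
      rw [map_mul, Equiv.Perm.mul_apply, ← hxe, map_inv]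
      exact (ρ x).symm_apply_apply ω
    have := mul_mem (Subgroup.mem_sup_left hx : x ∈ X ⊔ R) (Subgroup.mem_sup_right hxs)
    rwa [mul_inv_cancel_left] at this
  set N := X ⊓ R with hN
  have hcard : Nat.card R = Nat.card S * Nat.card N := by
    have h1 := Solv.card_sup_mul_card_inf' X R hRX
    have h2 := Solv.card_sup_mul_card_inf' X S hn
    rw [Solv.coprime_inf hco, Subgroup.card_bot, mul_one] at h2
    rw [hXR, h2] at h1
    refine Nat.eq_of_mul_eq_mul_left (Nat.card_pos (α := X)) ?_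
    rw [← h1]; ring
  haveI hNn : (N.subgroupOf R).Normal := by
    refine ⟨fun n hn' r => ?_⟩
    rw [Subgroup.mem_subgroupOf] at hn' ⊢
    exact ⟨(Subgroup.mem_normalizer_iff.1 (hRX r.2) _).1 hn'.1, (r * n * r⁻¹).2⟩
  have hidx : (N.subgroupOf R).index = Nat.card S := by
    have h := (N.subgroupOf R).card_mul_index
    rw [Solv.card_subgroupOf inf_le_right, hcard, mul_comm (Nat.card S)] at h
    exact Nat.eq_of_mul_eq_mul_left Nat.card_pos h
  obtain ⟨D, hD⟩ := Subgroup.exists_right_complement'_of_coprime (N := N.subgroupOf R)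
    (by rw [hidx, Solv.card_subgroupOf inf_le_right]
        exact hco.coprime_dvd_left (Subgroup.card_dvd_of_le inf_le_left))
  have hDc : Nat.card (D.map R.subtype) = Nat.card S := by
    rw [Solv.card_map_subtype, ← hidx, ← hD.symm.index_eq_card]
  obtain ⟨g, hg, hgS⟩ := Solv.sz_conj_rel X S (D.map R.subtype) hn
    ((Subgroup.map_subtype_le D).trans inf_le_right) hco hDc hsol
  refine ⟨g⁻¹, inv_mem hg, fun s hs => ?_⟩
  have h1 : g * s * g⁻¹ ∈ D.map R.subtype := by
    rw [← hgS, Solv.mem_conj_smul, show g⁻¹ * (g * s * g⁻¹) * g = s by group]; exact hs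
  have h2 : ρ (g * s * g⁻¹) ω = ω := (Subgroup.map_subtype_le D h1).1
  rw [← Equiv.Perm.mul_apply, ← map_mul, show s * g⁻¹ = g⁻¹ * (g * s * g⁻¹) by group, map_mul,
    Equiv.Perm.mul_apply, h2]

end Cfsg.Agent.EquivQuad
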