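import Mathlib

/-!
Squares in a finite subspace of units closed under the quadratic product.
-/

set_option autoImplicit false
set_option linter.style.haveILetI false

namespace Cfsg.Agent.EquivQuad

theorem sq_eq_sq {k E : Type*} [Field k] [Ring E] [Algebra k E] (h2 : (2 : k) ≠ 0) (D : Submodule k E) [Finite D]
    (h1 : (1 : E) ∈ D) (hu : ∀ x ∈ D, x ≠ 0 → IsUnit x) (hq : ∀ x ∈ D, ∀ y ∈ D, x * y * x ∈ D)
    {y z : E} (hy : y ∈ D) (hz : z ∈ D) (h : y * y = z * z) : y = z ∨ y = -z := by
  classical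
  rcases subsingleton_or_nontrivial E with hE | hE
  · exact Or.inl (Subsingleton.elim _ _)
  by_contra hne
  simp only [not_or] at hne
  obtain ⟨u, hu'⟩ : ∃ u, u = y - z := ⟨_, rfl⟩
  obtain ⟨w, hw'⟩ : ∃ w, w = y + z := ⟨_, rfl⟩
  have hu0 : u ≠ 0 := hu' ▸ sub_ne_zero.2 hne.1
  have hw0 : w ≠ 0 := fun e => hne.2 (eq_neg_of_add_eq_zero_left (hw'.symm.trans e))
  have hud : u ∈ D := hu' ▸ sub_mem hy hz
  have hwd : w ∈ D := hw' ▸ add_mem hy hz
  have anti : u * w = -(w * u) := by
    refine eq_neg_of_add_eq_zero_left ?_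
    calc u * w + w * u = (y * y - z * z) + (y * y - z * z) := by subst hu' hw'; noncomm_ring
      _ = 0 := by rw [h, sub_self, add_zero]
  have hsw : u * u * w = w * (u * u) := by
    rw [mul_assoc, anti, mul_neg, ← mul_assoc, anti, neg_mul, neg_neg, mul_assoc]
  have htu : w * w * u = u * (w * w) := by
    have a' : w * u = -(u * w) := by rw [anti, neg_neg]
    rw [mul_assoc, a', mul_neg, ← mul_assoc, a', neg_mul, neg_neg, mul_assoc]
  set s := u * u with hs
  set t := w * w with ht
  have hsu : s * u = u * s := mul_assoc u u u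
  have htw : t * w = w * t := mul_assoc w w w
  have hst : s * t = t * s := by
    calc s * t = (s * w) * w := (mul_assoc s w w).symm
      _ = w * (s * w) := by rw [hsw, mul_assoc, hsw]
      _ = t * s := by rw [hsw, ← mul_assoc]
  let C : Submodule k E :=
    { carrier := {c | c ∈ D ∧ c * u = u * c ∧ c * w = w * c}
      add_mem' := fun {a b} ha hb => ⟨add_mem ha.1 hb.1, by rw [add_mul, mul_add, ha.2.1, hb.2.1],
        by rw [add_mul, mul_add, ha.2.2, hb.2.2]⟩
      zero_mem' := ⟨zero_mem D, by simp, by simp⟩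
      smul_mem' := fun r a ha => ⟨D.smul_mem r ha.1, by rw [smul_mul_assoc, mul_smul_comm, ha.2.1],
        by rw [smul_mul_assoc, mul_smul_comm, ha.2.2]⟩ }
  have hgen : ∀ c ∈ C, c * s ∈ C ∧ c * t ∈ C := by
    rintro c ⟨hc, hcu, hcw⟩
    refine ⟨⟨?_, ?_, ?_⟩, ⟨?_, ?_, ?_⟩⟩
    · rw [show c * s = u * c * u by rw [hs, ← mul_assoc, hcu]]; exact hq u hud c hc
    · rw [mul_assoc, hsu, ← mul_assoc, hcu, mul_assoc]
    · rw [mul_assoc, hsw, ← mul_assoc, hcw, mul_assoc]
    · rw [show c * t = w * c * w by rw [ht, ← mul_assoc, hcw]]; exact hq w hwd c hc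
    · rw [mul_assoc, htu, ← mul_assoc, hcu, mul_assoc]
    · rw [mul_assoc, htw, ← mul_assoc, hcw, mul_assoc]
  let Z : Subalgebra k E := Algebra.adjoin k {s, t}
  have hZ : ∀ x ∈ Z, ∀ c ∈ C, c * x ∈ C := by
    intro x hx
    induction hx using Algebra.adjoin_induction with
    | mem x hx =>
      rcases hx with rfl | rfl
      · exact fun c hc => (hgen c hc).1
      · exact fun c hc => (hgen c hc).2
    | algebraMap r =>
      intro c hc
      rw [← Algebra.commutes, ← Algebra.smul_def]
      exact C.smul_mem r hc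
    | add a b _ _ ha hb => intro c hc; rw [mul_add]; exact add_mem (ha c hc) (hb c hc)
    | mul a b _ _ ha hb => intro c hc; rw [← mul_assoc]; exact hb _ (ha c hc)
  have hZC : ∀ x ∈ Z, x ∈ C := fun x hx => by
    have := hZ x hx 1 ⟨h1, by rw [one_mul, mul_one], by rw [one_mul, mul_one]⟩
    rwa [one_mul] at this
  have hcomm : ∀ a ∈ ({s, t} : Set E), ∀ b ∈ ({s, t} : Set E), a * b = b * a := by
    rintro a (rfl | rfl) b (rfl | rfl)
    exacts [rfl, hst, hst.symm, rfl]
  haveI : IsMulCommutative Z := Algebra.isMulCommutative_adjoin k hcomm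
  letI : CommRing Z := { (inferInstance : Ring Z) with mul_comm := mul_comm' }
  haveI : Finite Z := Finite.of_injective (fun x : Z => (⟨x, (hZC x x.2).1⟩ : D))
    fun a b e => Subtype.ext (congrArg (fun v : D => (v : E)) e)
  haveI : Nontrivial Z := ⟨⟨0, 1, fun e => zero_ne_one (congrArg Subtype.val e)⟩⟩
  haveI : NoZeroDivisors Z := ⟨fun {a b} e => by
    by_cases ha : (a : E) = 0
    · exact Or.inl (Subtype.ext ha)
    · exact Or.inr (Subtype.ext ((hu _ (hZC a a.2).1 ha).mul_right_eq_zero.1 (congrArg Subtype.val e)))⟩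
  haveI : IsDomain Z := NoZeroDivisors.to_isDomain Z
  letI := Fintype.ofFinite Z
  letI : Field Z := Fintype.fieldOfDomain Z
  let s' : Z := ⟨s, Algebra.subset_adjoin (Set.mem_insert _ _)⟩
  let t' : Z := ⟨t, Algebra.subset_adjoin (Set.mem_insert_of_mem _ rfl)⟩
  have hs0 : s' ≠ 0 := fun e => by
    have e' : u * u = 0 := congrArg Subtype.val e
    exact hu0 ((hu u hud hu0).mul_right_eq_zero.1 e')
  have ht0 : t' ≠ 0 := fun e => by
    have e' : w * w = 0 := congrArg Subtype.val e
    exact hw0 ((hu w hwd hw0).mul_right_eq_zero.1 e')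
  have h2E : IsUnit (2 : E) := by
    rw [show (2 : E) = algebraMap k E 2 by rw [map_ofNat]]
    exact (IsUnit.mk0 _ h2).map _
  have h2Z : (2 : Z) ≠ 0 := fun e => by
    have e' : (2 : E) = 0 := congrArg Subtype.val e
    exact h2E.ne_zero e'
  obtain ⟨a, b, hab⟩ := FiniteField.exists_root_sum_quadratic (f := Polynomial.C s' * Polynomial.X ^ 2)
    (g := Polynomial.C t' * Polynomial.X ^ 2 - 1) (by rw [Polynomial.degree_C_mul_X_pow 2 hs0]; rfl)
    (by
      rw [Polynomial.degree_sub_eq_left_of_degree_lt, Polynomial.degree_C_mul_X_pow 2 ht0]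
      · rfl
      · rw [Polynomial.degree_C_mul_X_pow 2 ht0, Polynomial.degree_one]; exact WithBot.coe_lt_coe.2 two_pos)
    (FiniteField.odd_card_of_char_ne_two fun hc => h2Z (by
      have := ringChar.Nat.cast_ringChar (R := Z)
      rw [hc] at this
      simpa using this))
  simp only [Polynomial.eval_mul, Polynomial.eval_C, Polynomial.eval_pow, Polynomial.eval_X, Polynomial.eval_sub,
    Polynomial.eval_one] at hab
  have hab' : (a : E) * a * s + (b : E) * b * t = 1 := by
    have e : a * a * s' + b * b * t' = 1 := by linear_combination hab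
    exact congrArg Subtype.val e
  obtain ⟨had, hau, haw⟩ := hZC a a.2
  obtain ⟨hbd, hbu, hbw⟩ := hZC b b.2
  have jord : ∀ c v : E, c ∈ D → v ∈ D → c * v = v * c → c * v ∈ D := by
    intro c v hc hv e
    have hsq : ∀ x ∈ D, x * x ∈ D := fun x hx => by simpa using hq x hx 1 h1
    have h2' : c * v + c * v ∈ D := by
      have := sub_mem (sub_mem (hsq _ (add_mem hc hv)) (hsq c hc)) (hsq v hv)
      rwa [show (c + v) * (c + v) - c * c - v * v = c * v + v * c by noncomm_ring, ← e] at this
    have := D.smul_mem (2 : k)⁻¹ h2'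
    rwa [← two_smul k, smul_smul, inv_mul_cancel₀ h2, one_smul] at this
  set x := (a : E) * u + (b : E) * w with hx
  have hxd : x ∈ D := add_mem (jord _ _ had hud hau) (jord _ _ hbd hwd hbw)
  have hba : (b : E) * a = a * b := congrArg Subtype.val (mul_comm b a)
  have hxx : x * x = 1 := by
    calc x * x = a * (u * a) * u + a * (u * b) * w + b * (w * a) * u + b * (w * b) * w := by
          rw [hx]; noncomm_ring
      _ = (a * a * s + b * b * t) + ((a * b) * (u * w) + (b * a) * (w * u)) := by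
          rw [← hau, ← hbu, ← haw, ← hbw, hs, ht]; noncomm_ring
      _ = 1 := by rw [hab', hba, anti, mul_neg, neg_add_cancel, add_zero]
  have hx1 : x = 1 ∨ x = -1 := by
    by_cases e : x - 1 = 0
    · exact Or.inl (sub_eq_zero.1 e)
    · refine Or.inr (eq_neg_of_add_eq_zero_left ((hu _ (sub_mem hxd h1) e).mul_right_eq_zero.1 ?_))
      rw [sub_mul, one_mul, mul_add, mul_one, hxx]; abel
  have hcu : x * u = u * x := by rcases hx1 with e | e <;> rw [e] <;> simp
  have hcw : x * w = w * x := by rcases hx1 with e | e <;> rw [e] <;> simp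
  have huw : ∀ c : E, c ∈ D → c * (u * w) = c * (w * u) → c = 0 := by
    intro c hc e
    by_contra hc0
    have e1 : u * w = w * u := (hu c hc hc0).mul_left_cancel e
    have e2 : (2 : E) * (w * u) = 0 := by
      rw [two_mul]; nth_rewrite 1 [← e1]
      rw [anti, neg_add_cancel]
    exact ((hu w hwd hw0).mul (hu u hud hu0)).ne_zero (h2E.mul_right_eq_zero.1 e2)
  have ha0 : (a : E) = 0 := by
    refine huw _ had ?_
    rw [hx, add_mul, mul_add, ← mul_assoc w (b : E) w, ← hbw, mul_assoc (b : E) w w,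
      mul_assoc (a : E) u w, ← mul_assoc w (a : E) u, ← haw, mul_assoc (a : E) w u] at hcw
    exact add_right_cancel hcw
  have hb0 : (b : E) = 0 := by
    refine huw _ hbd ?_
    rw [hx, add_mul, mul_add, ← mul_assoc u (a : E) u, ← hau, mul_assoc (a : E) u u,
      mul_assoc (b : E) w u, ← mul_assoc u (b : E) w, ← hbu, mul_assoc (b : E) u w] at hcu
    exact (add_left_cancel hcu).symm
  rw [ha0, hb0] at hab'
  simp at hab'

end Cfsg.Agent.EquivQuad
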