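import Cfsg.Agent.Lib.Lead.QP.Product

/-!
The special linear group of degree two attached to two mutually inverse square zero elements.
-/

set_option autoImplicit false
set_option linter.unusedSectionVars false
set_option linter.unusedSimpArgs false

namespace Cfsg.Agent.EquivQuad

open Cfsg.Agent.Lead.QP (uM lM uM_val lM_val mem_of_uM_lM)

variable {k E : Type*} [Field k] [Ring E] [Algebra k E]

/-- Two square zero elements inverting each other. -/
structure IsPair (x y : E) : Prop where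
  xx : x * x = 0
  yy : y * y = 0
  xyx : x * y * x = -x
  yxy : y * x * y = -y

theorem IsPair.symm {x y : E} (h : IsPair x y) : IsPair y x := ⟨h.yy, h.xx, h.yxy, h.xyx⟩

theorem IsPair.neg {x y : E} (h : IsPair x y) : IsPair (-x) (-y) :=
  ⟨by rw [neg_mul_neg, h.xx], by rw [neg_mul_neg, h.yy], by rw [neg_mul_neg, mul_neg, h.xyx],
    by rw [neg_mul_neg, mul_neg, h.yxy]⟩

/-- The first idempotent. -/
def e₁ (x y : E) : E := -(x * y)

/-- The idempotent off both. -/
def e₀ (x y : E) : E := 1 + x * y + y * x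

/-- The image of a matrix in the corner. -/
def corner (x y : E) (m : Matrix (Fin 2) (Fin 2) k) : E :=
  m 0 0 • e₁ x y + m 0 1 • x - m 1 0 • y + m 1 1 • e₁ y x

section

variable {x y : E} (h : IsPair x y)
include h

theorem e₁_x : e₁ x y * x = x := by rw [e₁, neg_mul, h.xyx, neg_neg]
theorem x_e₁ : x * e₁ x y = 0 := by rw [e₁, mul_neg, ← mul_assoc, h.xx, zero_mul, neg_zero]
theorem x_e₁' : x * e₁ y x = x := by rw [e₁, mul_neg, ← mul_assoc, h.xyx, neg_neg]
theorem e₁'_x : e₁ y x * x = 0 := by rw [e₁, neg_mul, mul_assoc, h.xx, mul_zero, neg_zero]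
theorem e₁_e₁ : e₁ x y * e₁ x y = e₁ x y := by
  rw [e₁, neg_mul_neg, ← mul_assoc, h.xyx, neg_mul]
theorem e₁_e₁' : e₁ x y * e₁ y x = 0 := by
  rw [e₁, e₁, neg_mul_neg, ← mul_assoc, mul_assoc x y y, h.yy, mul_zero, zero_mul]
theorem e₀_x : e₀ x y * x = 0 := by
  rw [e₀, add_mul, add_mul, one_mul, h.xyx, mul_assoc y x x, h.xx, mul_zero, add_zero, add_neg_cancel]
theorem x_e₀ : x * e₀ x y = 0 := by
  rw [e₀, mul_add, mul_add, mul_one, ← mul_assoc, ← mul_assoc, h.xx, h.xyx, zero_mul, add_zero, add_neg_cancel]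

theorem e₀_comm : e₀ x y = e₀ y x := by rw [e₀, e₀]; abel

theorem e₀_y : e₀ x y * y = 0 := by rw [e₀_comm h]; exact e₀_x h.symm
theorem y_e₀ : y * e₀ x y = 0 := by rw [e₀_comm h]; exact x_e₀ h.symm
theorem e₀_e₁ : e₀ x y * e₁ x y = 0 := by rw [e₁, mul_neg, ← mul_assoc, e₀_x h, zero_mul, neg_zero]
theorem e₁_e₀ : e₁ x y * e₀ x y = 0 := by rw [e₁, neg_mul, mul_assoc, y_e₀ h, mul_zero, neg_zero]
theorem e₀_e₁' : e₀ x y * e₁ y x = 0 := by rw [e₀_comm h]; exact e₀_e₁ h.symm
theorem e₁'_e₀ : e₁ y x * e₀ x y = 0 := by rw [e₀_comm h]; exact e₁_e₀ h.symm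
theorem e₀_e₀ : e₀ x y * e₀ x y = e₀ x y := by
  conv_lhs => arg 2; rw [e₀]
  rw [mul_add, mul_add, mul_one, ← mul_assoc, ← mul_assoc, e₀_x h, e₀_y h, zero_mul, zero_mul, add_zero, add_zero]

theorem corner_mul (m n : Matrix (Fin 2) (Fin 2) k) : corner x y m * corner x y n = corner x y (m * n) := by
  have c1 := e₁_x h; have c2 := x_e₁ h; have c3 := x_e₁' h; have c4 := e₁'_x h
  have c5 := e₁_e₁ h; have c6 := e₁_e₁' h
  have d1 := e₁_x h.symm; have d2 := x_e₁ h.symm; have d3 := x_e₁' h.symm; have d4 := e₁'_x h.symm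
  have d5 := e₁_e₁ h.symm; have d6 := e₁_e₁' h.symm
  have f1 : x * y = -e₁ x y := by rw [e₁, neg_neg]
  have f2 : y * x = -e₁ y x := by rw [e₁, neg_neg]
  simp only [corner, add_mul, mul_add, sub_mul, mul_sub, smul_mul_smul_comm, c1, c2, c3, c4, c5, c6, d1, d2, d3, d4,
    d5, d6, h.xx, h.yy, f1, f2, smul_zero, smul_neg, Matrix.mul_apply, Fin.sum_univ_two, add_smul]
  abel

theorem corner_one : e₀ x y + corner x y (1 : Matrix (Fin 2) (Fin 2) k) = 1 := by
  simp [corner, e₀, e₁]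
  abel

theorem corner_sq (m n : Matrix (Fin 2) (Fin 2) k) :
    (e₀ x y + corner x y m) * (e₀ x y + corner x y n) = e₀ x y + corner x y (m * n) := by
  rw [← corner_mul h]
  have l : e₀ x y * corner x y n = 0 := by
    simp only [corner, mul_add, mul_sub, mul_smul_comm, e₀_e₁ h, e₀_x h, e₀_y h, e₀_e₁' h, smul_zero, add_zero,
      sub_zero]
  have r : corner x y m * e₀ x y = 0 := by
    simp only [corner, add_mul, sub_mul, smul_mul_assoc, e₁_e₀ h, x_e₀ h, y_e₀ h, e₁'_e₀ h, smul_zero, add_zero,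
      sub_zero]
  rw [add_mul, mul_add, mul_add, e₀_e₀ h, l, r, add_zero, zero_add]

/-- The homomorphism. -/
def toGL : Matrix.SpecialLinearGroup (Fin 2) k →* Eˣ :=
  MonoidHom.toHomUnits
    { toFun := fun g => e₀ x y + corner x y (g : Matrix (Fin 2) (Fin 2) k)
      map_one' := by rw [Matrix.SpecialLinearGroup.coe_one, corner_one h]
      map_mul' := fun g g' => by rw [Matrix.SpecialLinearGroup.coe_mul, corner_sq h] }

theorem toGL_val (g : Matrix.SpecialLinearGroup (Fin 2) k) :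
    (toGL h g : E) = e₀ x y + corner x y (g : Matrix (Fin 2) (Fin 2) k) := rfl

theorem toGL_uM (r : k) : (toGL h (uM r) : E) = 1 + r • x := by
  rw [toGL_val]; simp [uM_val, corner, e₀, e₁]; abel

theorem toGL_lM (r : k) : (toGL h (lM r) : E) = 1 - r • y := by
  rw [toGL_val]; simp [lM_val, corner, e₀, e₁]; abel

theorem toGL_mem {H : Subgroup Eˣ} (hx : ∀ g : Eˣ, ∀ r : k, (g : E) = 1 + r • x → g ∈ H)
    (hy : ∀ g : Eˣ, ∀ r : k, (g : E) = 1 + r • y → g ∈ H) (g : Matrix.SpecialLinearGroup (Fin 2) k) :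
    toGL h g ∈ H :=
  mem_of_uM_lM (H.comap (toGL h)) (fun r => ⟨hx _ r (toGL_uM h r),
    hy _ (-r) (by rw [toGL_lM, neg_smul, ← sub_eq_add_neg])⟩) g

theorem corner_inj (hx : x ≠ 0) {m n : Matrix (Fin 2) (Fin 2) k}
    (e : e₀ x y + corner x y m = e₀ x y + corner x y n) : m = n := by
  have hy : y ≠ 0 := fun hy => hx (by have := h.xyx; rw [hy, mul_zero, zero_mul] at this; exact neg_eq_zero.1 this.symm)
  have h1 : e₁ x y ≠ 0 := fun e => hx (by rw [← e₁_x h, e, zero_mul])
  have h2 : e₁ y x ≠ 0 := fun e => hx (by rw [← x_e₁' h, e, mul_zero])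
  have c1 := e₁_x h; have c2 := x_e₁ h; have c3 := x_e₁' h; have c4 := e₁'_x h
  have c5 := e₁_e₁ h; have c6 := e₁_e₁' h
  have d1 := e₁_x h.symm; have d2 := x_e₁ h.symm; have d3 := x_e₁' h.symm; have d4 := e₁'_x h.symm
  have d5 := e₁_e₁ h.symm; have d6 := e₁_e₁' h.symm
  have g1 := e₀_e₁ h; have g2 := e₁_e₀ h; have g3 := e₀_e₁' h; have g4 := e₁'_e₀ h
  have k00 := congrArg (fun t => e₁ x y * t * e₁ x y) e
  have k01 := congrArg (fun t => e₁ x y * t * e₁ y x) e
  have k10 := congrArg (fun t => e₁ y x * t * e₁ x y) e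
  have k11 := congrArg (fun t => e₁ y x * t * e₁ y x) e
  simp only [corner, mul_add, add_mul, mul_sub, sub_mul, mul_smul_comm, smul_mul_assoc, c1, c2, c3, c4, c5, c6, d1,
    d2, d3, d4, d5, d6, g1, g2, g3, g4, zero_mul, smul_zero, zero_add, add_zero, sub_zero, zero_sub, neg_mul, neg_zero, neg_inj]
    at k00 k01 k10 k11
  ext i j
  fin_cases i <;> fin_cases j
  · exact smul_left_injective k h1 k00
  · exact smul_left_injective k hx k01
  · exact smul_left_injective k hy k10
  · exact smul_left_injective k h2 k11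

theorem toGL_injective (hx : x ≠ 0) : Function.Injective (toGL (k := k) h) := fun _ _ e =>
  Subtype.ext (corner_inj h hx (congrArg Units.val e))

theorem toGL_commute {s : E} (sx : Commute s x) (sy : Commute s y) (g : Matrix.SpecialLinearGroup (Fin 2) k) :
    Commute s (toGL h g : E) := by
  have he : Commute s (e₁ x y) := by rw [e₁]; exact (sx.mul_right sy).neg_right
  have he' : Commute s (e₁ y x) := by rw [e₁]; exact (sy.mul_right sx).neg_right
  rw [toGL_val, e₀, corner]
  exact (((Commute.one_right s).add_right (sx.mul_right sy)).add_right (sy.mul_right sx)).add_right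
    ((((he.smul_right _).add_right (sx.smul_right _)).sub_right (sy.smul_right _)).add_right (he'.smul_right _))

end

end Cfsg.Agent.EquivQuad
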