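import Cfsg.Agent.Lib.Lead.QP.Structure
import Cfsg.Agent.Lib.Local.EquivQuadratic.Jordan
import Cfsg.Agent.Lib.Local.EquivQuadratic.Sl2

/-!
A component has at most two orbits on its root elements; the inverses of a root element form one orbit.
-/

set_option autoImplicit false
set_option linter.unusedSectionVars false
set_option linter.style.haveILetI false
set_option linter.unusedSimpArgs false

universe u

namespace Cfsg.Agent.EquivQuad

open Cfsg Cfsg.Agent.Lead.QP

variable {k : Type u} [Field k] [Finite k] {M : Type u} [AddCommGroup M] [Module k M] [FiniteDimensional k M]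

local notation "End'" => Module.End k M
local notation "GL'" => LinearMap.GeneralLinearGroup k M

variable {G : Subgroup (LinearMap.GeneralLinearGroup k M)} {d : ℕ}

theorem opp_of_pair (hs : QS G d) {x y : End'} (hx : Qd G d x) (hy : Qd G d y) (h : IsPair x y) : Opp x y :=
  (hs.dichotomy hx hy).resolve_right fun e => hx.ne (neg_eq_zero.1 (h.xyx.symm.trans e.1))

theorem exists_pair (hs : QS G d) (hp : Partners G d) {x : End'} (hx : Qd G d x) :
    ∃ y, Qd G d y ∧ IsPair x y := by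
  obtain ⟨b, hb, ho⟩ := hp x hx
  obtain ⟨y, -, hy, -, e, e'⟩ := hs.inverse hx hb ho
  exact ⟨y, hy, hx.sq, hy.sq, e, e'⟩

theorem inverse_in_root (hs : QS G d) {v e : End'} (hv : Qd G d v) (he : Qd G d e) (h : IsPair v e) {x : End'}
    (hx : x ∈ Rt G v) (hx0 : x ≠ 0) : ∃ y ∈ Rt G e, Qd G d x ∧ Qd G d y ∧ IsPair x y := by
  obtain ⟨qx, -, -⟩ := Rt_qd hs hv hx hx0
  obtain ⟨y, hy, qy, -, e1, e2⟩ :=
    hs.inverse qx he ((opp_of_pair hs hv he h).of_mem hs hv he hx he.self_mem hx0 he.ne)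
  exact ⟨y, hy, qx, qy, qx.sq, qy.sq, e1, e2⟩

/-- The element exchanging a pair. -/
def swap {x y : End'} (h : IsPair x y) : GL' := u1 x h.xx * u1 y h.yy * u1 x h.xx

theorem swap_inv_val {x y : End'} (h : IsPair x y) :
    (((swap h)⁻¹ : GL') : End') = 1 + -x + -y + x * y + y * x := by
  have hinv : ∀ (z : End') (hz : z * z = 0) (hz' : -z * -z = 0), (u1 z hz)⁻¹ = u1 (-z) hz' := fun z hz hz' =>
    Units.ext (by change 1 - z = 1 + -z; rw [sub_eq_add_neg])
  rw [swap, mul_inv_rev, mul_inv_rev, ← mul_assoc, hinv x h.xx h.neg.xx, hinv y h.yy h.neg.yy,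
    swap_val h.neg.xx h.neg.yy h.neg.xyx, neg_mul_neg, neg_mul_neg]

theorem swap_mem {x y : End'} {H : Subgroup GL'} (h : IsPair x y) (hx : u1 x h.xx ∈ H) (hy : u1 y h.yy ∈ H) :
    swap h ∈ H := mul_mem (mul_mem hx hy) hx

theorem swap_cj_self {x y : End'} (h : IsPair x y) : cj (swap h) x = y := by
  rw [cj_apply, swap, swap_conj h.xx h.yy h.xyx h.yxy, mul_assoc, ← Units.val_mul, mul_inv_cancel, Units.val_one,
    mul_one]

theorem swap_cj {x y z : End'} (h : IsPair x y) (hk : LinearMap.ker y ≤ LinearMap.ker z)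
    (hr : LinearMap.range z ≤ LinearMap.range y) : cj (swap h) z = -(x * z * x) := by
  have hyz : y * z = 0 := mul_eq_zero_of_le (hr.trans (range_le_ker_of_sq h.yy))
  have hzy : z * y = 0 := mul_eq_zero_of_le ((range_le_ker_of_sq h.yy).trans hk)
  have hl : (1 + y * x) * z = 0 := mul_eq_zero_of_le (hr.trans (le_ker_of_mul_eq_zero
    (by rw [add_mul, one_mul, h.yxy, add_neg_cancel])))
  have hr' : z * (1 + x * y) = 0 := mul_eq_zero_of_le ((le_ker_of_mul_eq_zero
    (by rw [mul_add, mul_one, ← mul_assoc, h.yxy, add_neg_cancel])).trans hk)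
  rw [cj_apply, swap_inv_val, swap, swap_val h.xx h.yy h.xyx]
  calc _ = ((1 + y * x) * z + x * z + y * z + x * (y * z)) * (1 + -x + -y + x * y + y * x) := by noncomm_ring
    _ = x * (z * (1 + x * y)) + -(x * z * x) + -(x * (z * y)) + x * (z * y) * x := by
      rw [hl, hyz, mul_zero, zero_add, add_zero, add_zero]; noncomm_ring
    _ = _ := by rw [hr', hzy, mul_zero, neg_zero, zero_mul, zero_add, add_zero, add_zero]

theorem triple_mem (hs : QS G d) {v e : End'} (hv : Qd G d v) (he : Qd G d e) (h : IsPair v e) {x z : End'}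
    (hx : x ∈ Rt G v) (hz : z ∈ Rt G e) : x * z * x ∈ Rt G v := by
  by_cases hx0 : x = 0
  · rw [hx0, mul_zero]; exact zero_mem _
  obtain ⟨y, hy, qx, qy, hxy⟩ := inverse_in_root hs hv he h hx hx0
  obtain ⟨-, ry, ky⟩ := Rt_qd hs he hy qy.ne
  have hw : swap hxy ∈ Subgroup.normalizer (G : Set GL') :=
    Subgroup.le_normalizer (swap_mem hxy (InFam.u1_mem qx.mem _) (InFam.u1_mem qy.mem _))
  have e1 := swap_cj hxy (ky.le.trans (Rt_ker hz)) ((Rt_range hz).trans ry.ge)
  have hm : -(x * z * x) ∈ Rt G v := by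
    refine mem_Rt ?_ ?_ hv.sq (e1 ▸ InFam.cj (Rt_fam hz) hw)
    · exact (Rt_ker hx).trans ((ker_le_ker_mul (x * z) x).trans (by rw [LinearMap.ker_neg]))
    · rw [LinearMap.range_neg, mul_assoc]; exact (range_mul_le _ _).trans (Rt_range hx)
  simpa using neg_mem hm

theorem u1_mem_GP {a v x : End'} (hc : Con G d a v) (hx : x ∈ Rt G v)
    (hxx : x * x = 0) : u1 x hxx ∈ GP G d a :=
  Rg_le_GP hc (by rw [mem_Rg, u1_val, add_sub_cancel_left]; exact hx)

theorem orbit_step (hs : QS G d) {a v e : End'} (hv : Qd G d v) (he : Qd G d e) (h : IsPair v e) (hc : Con G d a v)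
    {x : End'} (hx : x ∈ Rt G v) (hx0 : x ≠ 0) : ∃ g ∈ GP G d a, cj g v = -(x * e * x) := by
  obtain ⟨y, hy, qx, qy, hxy⟩ := inverse_in_root hs hv he h hx hx0
  obtain ⟨-, ry, ky⟩ := Rt_qd hs he hy qy.ne
  have hce : Con G d a e := hc.trans (Con.of_opp hv he (opp_of_pair hs hv he h))
  refine ⟨swap hxy * swap h, mul_mem (swap_mem hxy (u1_mem_GP hc hx _) (u1_mem_GP hce hy _))
    (swap_mem h (u1_mem_GP hc hv.self_mem _) (u1_mem_GP hce he.self_mem _)), ?_⟩
  rw [← cj_comp, swap_cj_self, swap_cj hxy ky.le ry.ge]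

theorem square_fibre (hs : QS G d) {v e : End'} (hv : Qd G d v) (he : Qd G d e) (h : IsPair v e) {x z : End'}
    (hx : x ∈ Rt G v) (hz : z ∈ Rt G v) (hxz : x * e * x = z * e * z) : x = z ∨ x = -z := by
  let V := LinearMap.range v
  have hmem : ∀ q : Rt G v, ∀ r : V, (-((q : End') * e)) (r : M) ∈ V := fun q r => by
    rw [LinearMap.neg_apply]; exact neg_mem (Rt_range q.2 ⟨_, rfl⟩)
  let φ : Rt G v →ₗ[k] Module.End k V :=
    { toFun := fun q => (-((q : End') * e)).restrict (p := V) (q := V) fun r hr => hmem q ⟨r, hr⟩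
      map_add' := fun q q' => LinearMap.ext fun r => Subtype.ext (by
        simp [LinearMap.restrict_apply, add_mul]; abel)
      map_smul' := fun c q => LinearMap.ext fun r => Subtype.ext (by simp [LinearMap.restrict_apply]) }
  have hφ : ∀ q r, ((φ q r : V) : M) = -((q : End') (e (r : M))) := fun q r => rfl
  have hφv : φ ⟨v, hv.self_mem⟩ = 1 := LinearMap.ext fun ⟨r, hr⟩ => Subtype.ext (by
    obtain ⟨m, rfl⟩ := hr
    rw [hφ]
    have := LinearMap.congr_fun h.xyx m
    simp only [Module.End.mul_apply, LinearMap.neg_apply] at this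
    rw [this, neg_neg]; rfl)
  have ho := opp_of_pair hs hv he h
  have hinj : ∀ q : Rt G v, (q : End') ≠ 0 → Function.Injective (φ q) := fun q hq => by
    rw [injective_iff_map_eq_zero]
    intro r hr
    obtain ⟨-, -, kq⟩ := Rt_qd hs hv q.2 hq
    have h1 : (q : End') (e (r : M)) = 0 := neg_eq_zero.1 ((hφ q r).symm.trans (congrArg Subtype.val hr))
    have h2 : e (r : M) = 0 :=
      Submodule.disjoint_def.1 ho.2 _ ⟨_, rfl⟩ (kq.le (LinearMap.mem_ker.2 h1))
    exact Subtype.ext (Submodule.disjoint_def.1 ho.1 _ r.2 (LinearMap.mem_ker.2 h2))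
  haveI : Finite (Module.End k M) := Module.finite_of_finite k
  haveI : Finite (LinearMap.range φ) := Finite.of_surjective _ (LinearMap.surjective_rangeRestrict φ)
  have hsq : ∀ q, φ q * φ q = -(φ ⟨q * e * q, triple_mem hs hv he h q.2 he.self_mem⟩) := fun q =>
    LinearMap.ext fun r => Subtype.ext (by simp [hφ])
  have key := sq_eq_sq hs.h2 (LinearMap.range φ) ⟨_, hφv⟩ ?_ ?_ ⟨⟨x, hx⟩, rfl⟩ ⟨⟨z, hz⟩, rfl⟩
    (by rw [hsq, hsq]; exact congrArg (fun q => -(φ q)) (Subtype.ext hxz))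
  · have hker : ∀ q : Rt G v, φ q = 0 → (q : End') = 0 := fun q hq => by
      by_contra hq0
      obtain ⟨m, hm⟩ : ∃ m, v m ≠ 0 := by
        by_contra hno; push Not at hno; exact hv.ne (LinearMap.ext hno)
      have := hinj q hq0 (a₁ := ⟨v m, m, rfl⟩) (a₂ := 0) (by rw [hq]; simp)
      exact hm (congrArg Subtype.val this)
    rcases key with e1 | e1
    · exact Or.inl (sub_eq_zero.1 (hker (⟨x, hx⟩ - ⟨z, hz⟩) (by rw [map_sub, e1, sub_self])))
    · exact Or.inr (eq_neg_of_add_eq_zero_left (hker (⟨x, hx⟩ + ⟨z, hz⟩) (by rw [map_add, e1, neg_add_cancel])))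
  · rintro _ ⟨q, rfl⟩ hq
    have hq0 : (q : End') ≠ 0 := fun e0 => hq (by rw [show q = 0 from Subtype.ext e0, map_zero])
    exact (Module.End.isUnit_iff _).2 ⟨hinj q hq0, LinearMap.surjective_of_injective (hinj q hq0)⟩
  · rintro _ ⟨q, rfl⟩ _ ⟨q', rfl⟩
    have hm : e * (q' : End') * e ∈ Rt G e := triple_mem hs he hv h.symm he.self_mem q'.2
    exact ⟨⟨q * (e * q' * e) * q, triple_mem hs hv he h q.2 hm⟩,
      LinearMap.ext fun r => Subtype.ext (by simp [hφ])⟩

theorem cj_ne {g : GL'} {x : End'} (hx : x ≠ 0) : cj g x ≠ 0 := fun e => hx ((LinearEquiv.map_eq_zero_iff _).1 e)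

theorem into_root (hs : QS G d) {a c : End'} (ha : Qd G d a) (hc : Con G d a c) :
    ∃ g ∈ GP G d a, cj g c ∈ Rt G a ∧ cj g c ≠ 0 := by
  obtain ⟨g, hg, hge⟩ := con_conj hs ha hc
  have hgn : g⁻¹ ∈ Subgroup.normalizer (G : Set GL') :=
    Subgroup.le_normalizer (inv_mem (GP_le_self a hg))
  have hq := hc.qd ha
  refine ⟨g⁻¹, inv_mem hg, ?_, cj_ne hq.ne⟩
  have h1 : Rg G (cj g⁻¹ c) = Rg G a := by
    rw [← conjBy_Rg hq.sq hgn, ← hge, conjBy_comp, inv_mul_cancel, conjBy_one']
  rw [← Rt_of_Rg_eq h1]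
  exact (hq.cj hgn).self_mem

/-- Two of any three root elements of a component are conjugate under the group of the component. -/
theorem two_orbits (hs : QS G d) (hp : Partners G d) {a : End'} (ha : Qd G d a) {c₁ c₂ c₃ : End'}
    (h₁ : Con G d a c₁) (h₂ : Con G d a c₂) (h₃ : Con G d a c₃) :
    (∃ g ∈ GP G d a, cj g c₁ = c₂) ∨ (∃ g ∈ GP G d a, cj g c₂ = c₃) ∨ (∃ g ∈ GP G d a, cj g c₁ = c₃) := by
  classical
  haveI : Finite (Module.End k M) := Module.finite_of_finite k
  letI := Fintype.ofFinite (Module.End k M)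
  let N : Finset End' := Finset.univ.filter fun x => x ∈ Rt G a ∧ x ≠ 0
  let Orb : End' → Finset End' := fun v => N.filter fun x => ∃ g ∈ GP G d a, cj g v = x
  have hN : ∀ x, x ∈ N ↔ x ∈ Rt G a ∧ x ≠ 0 := fun x => by simp [N]
  have hO : ∀ v x, x ∈ Orb v ↔ x ∈ N ∧ ∃ g ∈ GP G d a, cj g v = x := fun v x => by simp [Orb]
  have big : ∀ v ∈ N, N.card ≤ 2 * (Orb v).card := by
    intro v hv
    obtain ⟨hva, hv0⟩ := (hN v).1 hv
    obtain ⟨qv, -, -⟩ := Rt_qd hs ha hva hv0
    have hRt : Rt G v = Rt G a := Rt_eq_of_mem hs ha hva hv0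
    obtain ⟨e, he, hve⟩ := exists_pair hs hp qv
    have hcv : Con G d a v := Con.of_Rg_eq hs hp ha qv (Rg_congr hRt.symm)
    have hsub : N.image (fun x => -(x * e * x)) ⊆ Orb v := by
      intro w hw
      obtain ⟨x, hx, rfl⟩ := Finset.mem_image.1 hw
      obtain ⟨hxa, hx0⟩ := (hN x).1 hx
      obtain ⟨g, hg, hgv⟩ := orbit_step hs qv he hve hcv (hRt.symm ▸ hxa) hx0
      refine (hO _ _).2 ⟨(hN _).2 ⟨?_, hgv ▸ cj_ne hv0⟩, g, hg, hgv⟩
      rw [← hRt]
      exact neg_mem (triple_mem hs qv he hve (hRt.symm ▸ hxa) he.self_mem)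
    refine (Finset.card_le_mul_card_image N 2 fun w hw => ?_).trans
      (Nat.mul_le_mul_left 2 (Finset.card_le_card hsub))
    obtain ⟨x, hx, rfl⟩ := Finset.mem_image.1 hw
    refine le_trans (Finset.card_le_card (t := {x, -x}) fun z hz => ?_) Finset.card_le_two
    rw [Finset.mem_filter, neg_inj] at hz
    simp only [Finset.mem_insert, Finset.mem_singleton]
    exact square_fibre hs qv he hve (hRt.symm ▸ ((hN z).1 hz.1).1) (hRt.symm ▸ ((hN x).1 hx).1) hz.2
  obtain ⟨g₁, hg₁, m₁⟩ := into_root hs ha h₁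
  obtain ⟨g₂, hg₂, m₂⟩ := into_root hs ha h₂
  obtain ⟨g₃, hg₃, m₃⟩ := into_root hs ha h₃
  have meet : ∀ {c c' : End'} {g g' : GL'}, g ∈ GP G d a → g' ∈ GP G d a →
      ¬ Disjoint (Orb (cj g c)) (Orb (cj g' c')) → ∃ f ∈ GP G d a, cj f c = c' := by
    intro c c' g g' hg hg' hd
    obtain ⟨x, hx, hx'⟩ := Finset.not_disjoint_iff.1 hd
    obtain ⟨-, f, hf, e⟩ := (hO _ _).1 hx
    obtain ⟨-, f', hf', e'⟩ := (hO _ _).1 hx'
    refine ⟨g'⁻¹ * f'⁻¹ * (f * g), mul_mem (mul_mem (inv_mem hg') (inv_mem hf')) (mul_mem hf hg), ?_⟩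
    rw [← cj_comp, ← cj_comp f, e, ← e', ← cj_comp, cj_inv, cj_inv]
  by_contra hno
  simp only [not_or] at hno
  obtain ⟨n12, n23, n13⟩ := hno
  have d12 : Disjoint (Orb (cj g₁ c₁)) (Orb (cj g₂ c₂)) := by_contra fun hd => n12 (meet hg₁ hg₂ hd)
  have d23 : Disjoint (Orb (cj g₂ c₂)) (Orb (cj g₃ c₃)) := by_contra fun hd => n23 (meet hg₂ hg₃ hd)
  have d13 : Disjoint (Orb (cj g₁ c₁)) (Orb (cj g₃ c₃)) := by_contra fun hd => n13 (meet hg₁ hg₃ hd)
  have b1 := big _ ((hN _).2 m₁)
  have b2 := big _ ((hN _).2 m₂)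
  have b3 := big _ ((hN _).2 m₃)
  have hc : (Orb (cj g₁ c₁) ∪ Orb (cj g₂ c₂) ∪ Orb (cj g₃ c₃)).card ≤ N.card := Finset.card_le_card
    (Finset.union_subset (Finset.union_subset (Finset.filter_subset _ _) (Finset.filter_subset _ _))
      (Finset.filter_subset _ _))
  rw [Finset.card_union_of_disjoint (Finset.disjoint_union_left.2 ⟨d13, d23⟩),
    Finset.card_union_of_disjoint d12] at hc
  have hpos : 0 < N.card := Finset.card_pos.2 ⟨a, (hN a).2 ⟨ha.self_mem, ha.ne⟩⟩
  omega

theorem mem_flag {W1 W2 : Submodule k M} {g : GL'} : g ∈ flag W1 W2 ↔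
    (∀ v, (g : End') v - v ∈ W1) ∧ (∀ v ∈ W1, (g : End') v - v ∈ W2) ∧ ∀ v ∈ W2, (g : End') v = v := Iff.rfl

/-- The unipotent group attached to a square zero element. -/
def flagOf (G : Subgroup GL') (x : End') : Subgroup GL' := G ⊓ flag (LinearMap.ker x) (LinearMap.range x)

theorem flagOf_fix {x : End'} {u : GL'} (hu : u ∈ flagOf G x) : cj u x = x := by
  obtain ⟨h1, -, h3⟩ := mem_flag.1 hu.2
  have e1 : (u : End') * x = x := LinearMap.ext fun v => h3 _ ⟨v, rfl⟩
  have e2 : x * (u : End') = x := LinearMap.ext fun v => by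
    have := LinearMap.mem_ker.1 (h1 v)
    rw [map_sub, sub_eq_zero] at this
    exact this
  rw [cj_apply, e1]
  conv_lhs => rw [← e2]
  rw [mul_assoc, ← Units.val_mul, mul_inv_cancel, Units.val_one, mul_one]

theorem flagOf_conj {x : End'} {g : GL'} (hg : g ∈ Subgroup.normalizer (G : Set GL')) {r : k} (hr : r ≠ 0)
    (hgx : cj g x = r • x) {u : GL'} (hu : u ∈ flagOf G x) : g * u * g⁻¹ ∈ flagOf G x := by
  refine ⟨(Subgroup.mem_normalizer_iff.1 hg u).1 hu.1, mem_flag.2 ?_⟩
  obtain ⟨h1, h2, h3⟩ := mem_flag.1 hu.2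
  have hk : (LinearMap.ker x).comap ((g⁻¹ : GL') : End') = LinearMap.ker x := by
    rw [← ker_cj, hgx, LinearMap.ker_smul x r hr]
  have hm : (LinearMap.range x).map (g : End') = LinearMap.range x := by
    rw [← range_cj, hgx, LinearMap.range_smul x r hr]
  have hgi : ∀ v, (g : End') (((g⁻¹ : GL') : End') v) = v := fun v => by
    rw [← Module.End.mul_apply, ← Units.val_mul, mul_inv_cancel]; rfl
  have hig : ∀ v, ((g⁻¹ : GL') : End') ((g : End') v) = v := fun v => by
    rw [← Module.End.mul_apply, ← Units.val_mul, inv_mul_cancel]; rfl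
  have e : ∀ v, ((g * u * g⁻¹ : GL') : End') v - v =
      (g : End') ((u : End') (((g⁻¹ : GL') : End') v) - ((g⁻¹ : GL') : End') v) := fun v => by
    rw [map_sub, hgi]; rfl
  refine ⟨fun v => ?_, fun v hv => ?_, fun v hv => sub_eq_zero.1 ?_⟩
  · rw [← hk, Submodule.mem_comap, e, hig]; exact h1 _
  · rw [e, ← hm]
    exact Submodule.mem_map_of_mem (h2 _ (by rw [← hk] at hv; exact hv))
  · rw [← hm] at hv
    obtain ⟨w, hw, rfl⟩ := hv
    rw [e, hig, h3 w hw, sub_self, map_zero]

/-- The mutual inverses of a root element are conjugate under the unipotent group of that element. -/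
theorem inverse_transitive (h2 : (2 : k) ≠ 0) (h3 : (3 : k) ≠ 0) {x y y' : End'} (hx : Qd G d x)
    (hy : Qd G d y) (hy' : Qd G d y') (h : IsPair x y) (h' : IsPair x y') :
    ∃ u ∈ flagOf G x, cj u y = y' := by
  set l : k := 2 with hl
  let D : Matrix.SpecialLinearGroup (Fin 2) k :=
    ⟨!![l, 0; 0, l⁻¹], by rw [Matrix.det_fin_two_of, mul_zero, sub_zero, mul_inv_cancel₀ h2]⟩
  have tor : ∀ {z : End'} (hz : IsPair x z),
      (toGL hz D : End') = e₀ x z + (l • e₁ x z + l⁻¹ • e₁ z x) := fun hz => by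
    rw [toGL_val]; simp [corner, D]
  have memG : ∀ {z : End'} (hz : IsPair x z), Qd G d z → toGL hz D ∈ G := fun {z} hz qz =>
    toGL_mem hz (fun g r hg => hx.mem.fam_subset ⟨r, hg⟩) (fun g r hg => qz.mem.fam_subset ⟨r, hg⟩) D
  have hhx : ∀ {z : End'} (hz : IsPair x z),
      (toGL hz D : End') * x = l • x ∧ x * (toGL hz D : End') = l⁻¹ • x := fun hz => by
    rw [tor hz]
    constructor
    · rw [add_mul, add_mul, smul_mul_assoc, smul_mul_assoc, e₀_x hz, e₁_x hz, e₁'_x hz, smul_zero, add_zero,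
        zero_add]
    · rw [mul_add, mul_add, mul_smul_comm, mul_smul_comm, x_e₀ hz, x_e₁ hz, x_e₁' hz, smul_zero, zero_add,
        zero_add]
  set t := toGL h D with ht
  set t' := toGL h' D with ht'
  have htn : t ∈ Subgroup.normalizer (G : Set GL') := Subgroup.le_normalizer (memG h hy)
  have htx : cj t x = (l * l) • x := by
    have e : x = l • (x * (t : End')) := by rw [(hhx h).2, smul_smul, mul_inv_cancel₀ h2, one_smul]
    rw [cj_apply, (hhx h).1]
    conv_lhs => rw [e]
    rw [smul_smul, smul_mul_assoc, mul_assoc, ← Units.val_mul, mul_inv_cancel, Units.val_one, mul_one]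
  have hll : l * l ≠ 0 := mul_ne_zero h2 h2
  have htx' : cj t⁻¹ x = (l * l)⁻¹ • x := by
    conv_lhs => rw [show x = (l * l)⁻¹ • cj t x by rw [htx, smul_smul, inv_mul_cancel₀ hll, one_smul]]
    rw [map_smul, cj_inv]
  -- the two torus elements differ by an element of the unipotent group
  have hdiff : t⁻¹ * t' ∈ flagOf G x := by
    refine ⟨G.mul_mem (G.inv_mem (memG h hy)) (memG h' hy'), ?_⟩
    have ex : ∀ v, x ((t' : End') v) = x ((t : End') v) := fun v => by
      rw [← Module.End.mul_apply, ← Module.End.mul_apply, (hhx h).2, (hhx h').2]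
    have exr : ∀ v, (t' : End') (x v) = (t : End') (x v) := fun v => by
      rw [← Module.End.mul_apply, ← Module.End.mul_apply, (hhx h).1, (hhx h').1]
    have hti : ∀ v, ((t⁻¹ : GL') : End') ((t : End') v) = v := fun v => by
      rw [← Module.End.mul_apply, ← Units.val_mul, inv_mul_cancel]; rfl
    have e : ∀ v, ((t⁻¹ * t' : GL') : End') v - v = ((t⁻¹ : GL') : End') ((t' : End') v - (t : End') v) :=
      fun v => by rw [map_sub, hti]; rfl
    have hk : (LinearMap.ker x).comap (t : End') = LinearMap.ker x := by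
      have := ker_cj t⁻¹ x
      rwa [inv_inv, htx', LinearMap.ker_smul x _ (inv_ne_zero hll), eq_comm] at this
    have hm : (LinearMap.range x).map ((t⁻¹ : GL') : End') = LinearMap.range x := by
      rw [← range_cj, htx', LinearMap.range_smul x _ (inv_ne_zero hll)]
    refine mem_flag.2 ⟨fun v => ?_, fun v hv => ?_, fun v hv => sub_eq_zero.1 ?_⟩
    · rw [e, ← hk, Submodule.mem_comap, ← Module.End.mul_apply, ← Units.val_mul, mul_inv_cancel,
        Units.val_one, Module.End.one_apply, LinearMap.mem_ker, map_sub, ex, sub_self]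
    · rw [e, ← hm]
      refine Submodule.mem_map_of_mem ?_
      have mid : ∀ {z : End'} (hz : IsPair x z), (toGL hz D : End') v - v ∈ LinearMap.range x := fun {z} hz => by
        have hv0 : x v = 0 := LinearMap.mem_ker.1 hv
        refine ⟨(1 - l) • z v, ?_⟩
        rw [tor hz, map_smul]
        simp [e₀, e₁, hv0, sub_smul]
        abel
      rw [← sub_sub_sub_cancel_right _ _ v]
      exact sub_mem (mid h') (mid h)
    · obtain ⟨w, rfl⟩ := hv
      rw [e, exr, sub_self, map_zero]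
  have hl' : l - l⁻¹ ≠ 0 := fun e => h3 (by
    have : l * l = 1 := by rw [← mul_inv_cancel₀ h2, ← sub_eq_zero.1 e]
    rw [hl] at this
    linear_combination this)
  -- conjugation by the torus element is fixed point free on the unipotent group
  have fpf : ∀ u ∈ flagOf G x, t * u = u * t → u = 1 := by
    intro u hu hcomm
    obtain ⟨f1, f2, f3⟩ := mem_flag.1 hu.2
    set c := (u : End') - 1 with hc
    have cx : c * x = 0 := LinearMap.ext fun v => by
      rw [hc, Module.End.mul_apply, LinearMap.sub_apply, Module.End.one_apply, f3 _ ⟨v, rfl⟩, sub_self]; rfl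
    have xc : x * c = 0 := LinearMap.ext fun v => LinearMap.mem_ker.1 (f1 v)
    have hct : Commute c (t : End') :=
      (show Commute (u : End') (t : End') from (congrArg Units.val hcomm).symm).sub_left (Commute.one_left _)
    have hct1 : c * e₁ x y = 0 := by rw [e₁, mul_neg, ← mul_assoc, cx, zero_mul, neg_zero]
    have hct2 : e₁ y x * c = 0 := by rw [e₁, neg_mul, mul_assoc, xc, mul_zero, neg_zero]
    have key : c * e₁ y x = 0 ∧ e₁ x y * c = 0 := by
      have e := hct.eq
      rw [ht, tor h] at e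
      have e1 := congrArg (fun s => e₁ x y * s) e
      have e2 := congrArg (fun s => s * e₁ y x) e
      have hkl : l ≠ 1 := fun e => one_ne_zero (show (1 : k) = 0 by rw [hl] at e; linear_combination e)
      have hkl' : l⁻¹ ≠ 1 := fun e => hkl (inv_eq_one.1 e)
      have q0 : e₀ x y = 1 - e₁ x y - e₁ y x := by simp [e₀, e₁]
      have hmix : e₁ x y * (c * e₁ y x) = 0 := by
        have e3 := congrArg (fun s => e₁ x y * s * e₁ y x) e
        simp only [mul_add, add_mul, mul_smul_comm, smul_mul_assoc] at e3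
        rw [q0] at e3
        simp only [mul_sub, sub_mul, mul_one, one_mul, ← mul_assoc, e₁_e₁ h, e₁_e₁' h, zero_mul, smul_zero,
          sub_self, zero_add, add_zero, sub_zero] at e3
        simp only [mul_assoc, e₁_e₁ h.symm, hct1, hct2, mul_zero, zero_mul, smul_zero, sub_self, zero_add, add_zero,
          sub_zero] at e3
        have hx' : (l - l⁻¹) • (e₁ x y * (c * e₁ y x)) = 0 := by
          rw [sub_smul, sub_eq_zero]; exact e3.symm
        exact (smul_eq_zero.1 hx').resolve_left hl'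
      rw [q0] at e1 e2
      simp only [mul_add, add_mul, mul_sub, sub_mul, mul_one, one_mul, mul_smul_comm, smul_mul_assoc,
        ← mul_assoc, e₁_e₁ h, e₁_e₁' h, zero_mul, smul_zero, add_zero, sub_zero] at e1
      simp only [mul_assoc, hct1, hct2, mul_zero, smul_zero, zero_mul, add_zero, sub_zero, zero_add,
        sub_self] at e1
      simp only [mul_add, add_mul, mul_sub, sub_mul, mul_one, one_mul, mul_smul_comm, smul_mul_assoc,
        mul_assoc, e₁_e₁ h.symm, e₁_e₁' h, mul_zero, smul_zero, add_zero, sub_zero] at e2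
      simp only [← mul_assoc, hct1, hct2, zero_mul, smul_zero, mul_zero, add_zero, sub_zero, zero_add,
        sub_self] at e2
      rw [hmix, smul_zero, sub_zero, add_zero] at e1
      rw [mul_assoc, hmix, smul_zero, sub_zero, add_zero] at e2
      constructor
      · have hx' : (l⁻¹ - 1) • (c * e₁ y x) = 0 := by
          rw [sub_smul, one_smul]
          linear_combination (norm := abel) e2
        exact (smul_eq_zero.1 hx').resolve_left (sub_ne_zero.2 hkl')
      · have hx' : (l - 1) • (e₁ x y * c) = 0 := by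
          rw [sub_smul, one_smul]
          linear_combination (norm := abel) -e1
        exact (smul_eq_zero.1 hx').resolve_left (sub_ne_zero.2 hkl)
    refine eq_one_of_sub (show c = 0 from LinearMap.ext fun v => ?_)
    have q : ∀ w, (1 : End') w = (e₀ x y) w + (e₁ x y) w + (e₁ y x) w := fun w => by
      simp [e₀, e₁]; abel
    have h0 : x ((e₀ x y) v) = 0 := LinearMap.congr_fun (x_e₀ h) v
    obtain ⟨w, hw⟩ := f2 _ (LinearMap.mem_ker.2 h0)
    have hcv : c v = c ((e₀ x y) v) := by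
      conv_lhs => rw [show v = (1 : End') v from rfl, q v]
      rw [map_add, map_add, show c ((e₁ x y) v) = 0 from LinearMap.congr_fun hct1 v,
        show c ((e₁ y x) v) = 0 from LinearMap.congr_fun key.1 v, add_zero, add_zero]
    have hP : (e₁ x y) (c ((e₀ x y) v)) = c ((e₀ x y) v) := by
      rw [show c ((e₀ x y) v) = x w from hw.symm]
      exact LinearMap.congr_fun (e₁_x h) w
    rw [hcv, ← hP]
    exact LinearMap.congr_fun key.2 _
  let φ : flagOf G x → flagOf G x := fun u => ⟨t⁻¹ * (u : GL') * t * (u : GL')⁻¹, mul_mem (by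
    simpa using flagOf_conj (inv_mem htn) (inv_ne_zero hll) htx' u.2) (inv_mem u.2)⟩
  have hφ : Function.Injective φ := fun u v e => by
    have e' : t⁻¹ * (u : GL') * t * (u : GL')⁻¹ = t⁻¹ * (v : GL') * t * (v : GL')⁻¹ := congrArg Subtype.val e
    have h1 : (u : GL') * t * (u : GL')⁻¹ = (v : GL') * t * (v : GL')⁻¹ := by
      have := congrArg (fun s => t * s) e'
      simpa [← mul_assoc] using this
    have := fpf ((v : GL')⁻¹ * u) (mul_mem (inv_mem v.2) u.2) (by
      calc t * ((v : GL')⁻¹ * u) = (v : GL')⁻¹ * ((v : GL') * t * (v : GL')⁻¹) * u := by group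
        _ = (v : GL')⁻¹ * ((u : GL') * t * (u : GL')⁻¹) * u := by rw [h1]
        _ = (v : GL')⁻¹ * u * t := by group)
    exact Subtype.ext (inv_mul_eq_one.1 this).symm
  haveI : Finite (Module.End k M) := Module.finite_of_finite k
  obtain ⟨⟨u, hu⟩, hue⟩ := (Finite.injective_iff_surjective.1 hφ) ⟨_, hdiff⟩
  refine ⟨u, hu, ?_⟩
  have hut : u * t * u⁻¹ = t' := by
    have := congrArg Subtype.val hue
    have h2 := congrArg (fun s => t * s) this
    simpa [φ, ← mul_assoc] using h2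
  set y'' := cj u y with hy''
  have hfx := flagOf_fix hu
  have h'' : IsPair x y'' := ⟨hx.sq, by rw [← cj_mul, h.yy, map_zero],
    by conv_lhs => rw [← hfx]
       rw [← cj_mul, ← cj_mul, h.xyx, map_neg, hfx],
    by conv_lhs => rw [← hfx]
       rw [← cj_mul, ← cj_mul, h.yxy, map_neg]⟩
  have heq : (toGL h'' D : End') = (toGL h' D : End') := by
    have e1 : (t' : End') = cj u (t : End') := by rw [← hut, cj_apply, Units.val_mul, Units.val_mul]
    rw [← ht', e1, ht, tor h, tor h'']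
    have h1' : cj u (1 : End') = 1 := by rw [cj_apply, mul_one, ← Units.val_mul, mul_inv_cancel, Units.val_one]
    simp only [e₀, e₁, map_add, map_smul, map_neg, cj_mul, h1', hfx, ← hy'']
  rw [tor h'', tor h'] at heq
  have key : ∀ {z : End'} (hz : IsPair x z),
      (e₀ x z + (l • e₁ x z + l⁻¹ • e₁ z x) - 1) * (e₀ x z + (l • e₁ x z + l⁻¹ • e₁ z x) - l⁻¹ • 1) =
        ((l - 1) * (l - l⁻¹)) • e₁ x z ∧
      (e₀ x z + (l • e₁ x z + l⁻¹ • e₁ z x) - 1) * (e₀ x z + (l • e₁ x z + l⁻¹ • e₁ z x) - l • 1) =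
        ((l⁻¹ - 1) * (l⁻¹ - l)) • e₁ z x := fun {z} hz => by
    have q0 : e₀ x z = 1 - e₁ x z - e₁ z x := by simp [e₀, e₁]
    rw [q0]
    constructor <;>
    · simp only [mul_add, add_mul, mul_sub, sub_mul, mul_one, one_mul, mul_smul_comm, smul_mul_assoc,
        e₁_e₁ hz, e₁_e₁' hz, e₁_e₁ hz.symm, e₁_e₁' hz.symm, smul_zero]
      module
  have hl1 : l - 1 ≠ 0 := by rw [hl, show (2 : k) - 1 = 1 by ring]; exact one_ne_zero
  have hl1' : l⁻¹ - 1 ≠ 0 := fun e => hl1 (by rw [inv_eq_one.1 (sub_eq_zero.1 e), sub_self])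
  have P1 : e₁ x y'' = e₁ x y' := by
    refine smul_right_injective _ (mul_ne_zero hl1 hl') ?_
    change ((l - 1) * (l - l⁻¹)) • _ = ((l - 1) * (l - l⁻¹)) • _
    rw [← (key h'').1, ← (key h').1, heq]
  have P2 : e₁ y'' x = e₁ y' x := by
    refine smul_right_injective _ (mul_ne_zero hl1' (show l⁻¹ - l ≠ 0 by rwa [← neg_sub, neg_ne_zero])) ?_
    change ((l⁻¹ - 1) * (l⁻¹ - l)) • _ = ((l⁻¹ - 1) * (l⁻¹ - l)) • _
    rw [← (key h'').2, ← (key h').2, heq]
  rw [← e₁_x h''.symm, ← e₁_x h'.symm]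
  change e₁ y'' x * y'' = e₁ y' x * y'
  rw [P2, e₁, neg_mul, neg_mul, mul_assoc, mul_assoc]
  rw [e₁, e₁, neg_inj] at P1
  rw [P1]

end Cfsg.Agent.EquivQuad
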