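import Cfsg.Prelude.Def_LocalEven
import Cfsg.Agent.Lib.Lead.QP.FieldCase
import Cfsg.Agent.Lib.Fusion.Cores
import Cfsg.Agent.Lib.Fusion.Sections
import Cfsg.Agent.Lib.OddChar.FT.NoMinimal
import Cfsg.Agent.Lib.OddChar.FT.Final
import Cfsg.Agent.Lib.Local.EquivQuadratic.FixedPoint
import Cfsg.Agent.Lib.Local.EquivQuadratic.Orbits

/-!
The fixed points of a coprime group of a group with quadratic elements involve PSL₂(p).
-/

set_option autoImplicit false
set_option linter.unusedSectionVars false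
set_option linter.style.haveILetI false

namespace Cfsg.Agent.EquivQuad

open Cfsg Cfsg.Agent.Lead.QP

variable {p : ℕ} [hp : Fact p.Prime] {M : Type} [AddCommGroup M] [Module (ZMod p) M] [Module.Finite (ZMod p) M]

local notation "k" => ZMod p
local notation "End'" => Module.End (ZMod p) M
local notation "GL'" => LinearMap.GeneralLinearGroup (ZMod p) M

/-- Conjugation on the endomorphisms. -/
def conjPerm : GL' →* Equiv.Perm End' where
  toFun g := (cj g).toEquiv
  map_one' := Equiv.ext fun x => cj_one x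
  map_mul' g h := Equiv.ext fun x => (cj_comp g h x).symm

theorem conjPerm_apply (g : GL') (x : End') : conjPerm g x = cj g x := rfl

theorem small_ne (hp5 : 5 ≤ p) : (2 : k) ≠ 0 ∧ (3 : k) ≠ 0 ∧ Nat.card k ≠ 3 := by
  have h : ∀ n : ℕ, 0 < n → n < p → (n : k) ≠ 0 := fun n hn hlt e =>
    absurd (Nat.le_of_dvd hn ((ZMod.natCast_eq_zero_iff n p).1 e)) (by omega)
  exact ⟨by exact_mod_cast h 2 (by omega) (by omega), by exact_mod_cast h 3 (by omega) (by omega),
    by rw [Nat.card_zmod]; omega⟩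

theorem inFam_of_mem {G : Subgroup GL'} {σ : GL'} (hσ : σ ∈ G)
    (hsq : ((σ : End') - 1) * ((σ : End') - 1) = 0) : InFam G ((σ : End') - 1) := fun c => by
  refine ⟨σ ^ c.val, G.pow_mem hσ _, ?_⟩
  have key : ∀ n : ℕ, ((σ ^ n : GL') : End') = 1 + (n : k) • ((σ : End') - 1) := by
    intro n
    induction n with
    | zero => simp
    | succ n ih =>
      rw [pow_succ, Units.val_mul, ih, Nat.cast_succ, add_smul, one_smul]
      conv_lhs => arg 2; rw [← add_sub_cancel (1 : End') (σ : End')]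
      rw [mul_add, mul_one, add_mul, one_mul, smul_mul_assoc, hsq, smul_zero, add_zero, add_assoc]
  rw [key, ZMod.natCast_zmod_val]

theorem isPGroup_of_unipotent {H : Subgroup GL'} (h : IsUnipotentOn H) : IsPGroup p H := by
  rcases subsingleton_or_nontrivial End' with hE | hE
  · exact fun g => ⟨0, Subtype.ext (Units.ext (Subsingleton.elim _ _))⟩
  haveI : CharP End' p := charP_of_injective_algebraMap (algebraMap k End').injective p
  obtain ⟨n, hn⟩ := unipotent_iff.1 h
  rintro ⟨g, hg⟩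
  refine ⟨n, Subtype.ext (Units.ext ?_)⟩
  have h0 := hn (List.replicate n g) (fun x hx => (List.eq_of_mem_replicate hx) ▸ hg) (by simp)
  rw [List.map_replicate, List.prod_replicate] at h0
  have h1 : ((g : End') - 1) ^ (p ^ n) = 0 := pow_eq_zero_of_le (Nat.lt_pow_self hp.out.one_lt).le h0
  rw [sub_pow_char_pow_of_commute (p := p) (n := n) (Commute.one_right (g : End')), one_pow, sub_eq_zero] at h1
  simpa using h1

theorem flagOf_pGroup (G : Subgroup GL') (x : End') : IsPGroup p (flagOf G x) :=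
  isPGroup_of_unipotent (flag_unipotent inf_le_right)

/-- Roots of minimal rank have opposite roots when the largest normal p-subgroup is trivial. -/
theorem partners_of_core {G : Subgroup GL'} {d : ℕ} (hs : QS G d) (hcore : pCore p G = ⊥) : Partners G d := by
  intro a ha
  by_contra hno
  simp only [not_exists, not_and] at hno
  let W : Set (Subgroup GL') := {A | ∃ g ∈ G, A = Rg G (cj g a)}
  have hn : G ≤ Subgroup.normalizer (G : Set GL') := Subgroup.le_normalizer
  have hWW : ∀ A ∈ W, ∀ B ∈ W, IsUnipotentOn (A ⊔ B) := by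
    rintro A ⟨g, hg, rfl⟩ B ⟨h, hh, rfl⟩
    refine flag_unipotent (sup_le_flag hs (ha.cj (hn hg)) (ha.cj (hn hh)) fun ho =>
      hno (cj (g⁻¹ * h) a) (ha.cj (hn (mul_mem (inv_mem hg) hh))) ?_)
    have h1 := opp_cj ho g⁻¹
    rwa [cj_inv, cj_comp] at h1
  have hconj : ∀ A ∈ W, ∀ g ∈ G, conjBy A g ∈ W := by
    rintro A ⟨h, hh, rfl⟩ g hg
    exact ⟨g * h, mul_mem hg hh, by rw [conjBy_Rg (ha.cj (hn hh)).sq (hn hg), cj_comp]⟩
  obtain ⟨hu, hnorm⟩ := Cfsg.Agent.S5061.result
    (fun A (hA : A ∈ W) => by obtain ⟨g, -, rfl⟩ := hA; exact Rg_le _) hWW hconj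
  set V := ⨆ A ∈ W, A
  have hVG : V ≤ G := iSup₂_le fun A ⟨g, _, e⟩ => e ▸ Rg_le _
  haveI : (V.subgroupOf G).Normal := ⟨fun x hx g => by
    have h2 : (g : GL') * (x : GL') * (g : GL')⁻¹ ∈ conjBy V (g : GL') :=
      ⟨(x : GL'), Subgroup.mem_subgroupOf.1 hx, rfl⟩
    rw [hnorm _ g.2] at h2
    exact Subgroup.mem_subgroupOf.2 h2⟩
  have hle := Fusion.le_pCore (p := p) (N := V.subgroupOf G)
    ((isPGroup_of_unipotent hu).of_equiv (Subgroup.subgroupOfEquivOfLe hVG).symm)
  rw [hcore, le_bot_iff, Subgroup.subgroupOf_eq_bot] at hle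
  obtain ⟨g, hg, hgv⟩ := exists_mem_Rg (ha.self_mem)
  have hgV : g ∈ V := (le_iSup₂_of_le (f := fun A (_ : A ∈ W) => A) (Rg G a) ⟨1, one_mem _, by rw [cj_one]⟩ le_rfl :
    Rg G a ≤ V) hg
  have hg1 : g = 1 := Subgroup.disjoint_def.1 hle hgV (Rg_le _ hg)
  rw [hg1, Units.val_one] at hgv
  exact ha.ne (add_eq_left.1 hgv.symm)

theorem conjBy_eq {K : Subgroup GL'} {g : GL'} (h : conjBy K g = K) :
    g ∈ Subgroup.normalizer (K : Set GL') := mem_normalizer_of_conjBy h

theorem odd_of_coprime_pair (hp5 : 5 ≤ p) {G R : Subgroup GL'} (hco : (Nat.card G).Coprime (Nat.card R))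
    {d : ℕ} {x y : End'} (hx : Qd G d x) (hy : Qd G d y) (h : IsPair x y) : Odd (Nat.card R) := by
  haveI : Finite End' := Module.finite_of_finite k
  let m : Matrix.SpecialLinearGroup (Fin 2) k := ⟨!![-1, 0; 0, -1], by simp [Matrix.det_fin_two_of]⟩
  have hm : m * m = 1 := Subtype.ext (by
    rw [Matrix.SpecialLinearGroup.coe_mul, Matrix.SpecialLinearGroup.coe_one, Matrix.one_fin_two]
    change !![(-1 : k), 0; 0, -1] * !![(-1 : k), 0; 0, -1] = _
    rw [Matrix.mul_fin_two]; simp)
  have hm1 : m ≠ 1 := fun e => (small_ne hp5).1 (by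
    have := congrArg (fun g : Matrix.SpecialLinearGroup (Fin 2) k => (g : Matrix (Fin 2) (Fin 2) k) 0 0) e
    simp [m] at this
    linear_combination -this)
  have hmem : toGL h m ∈ G :=
    toGL_mem h (fun g r hg => hx.mem.fam_subset ⟨r, hg⟩) (fun g r hg => hy.mem.fam_subset ⟨r, hg⟩) m
  have ho : orderOf (⟨toGL h m, hmem⟩ : G) = 2 := by
    refine orderOf_eq_prime (Subtype.ext ?_) fun e => hm1 (toGL_injective h hx.ne ?_)
    · change toGL h m ^ 2 = 1
      rw [← map_pow, sq, hm, map_one]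
    · rw [map_one]; exact congrArg Subtype.val e
  have h2 : 2 ∣ Nat.card G := ho ▸ orderOf_dvd_natCard _
  refine Nat.not_even_iff_odd.1 fun he => ?_
  have := Nat.dvd_gcd h2 (even_iff_two_dvd.1 he)
  rw [hco.gcd_eq_one] at this
  omega

/-- Some root element of a component is fixed by an odd coprime group stabilising the component, and
so is some inverse of it. -/
theorem exists_fixed_pair (hp5 : 5 ≤ p) {G S : Subgroup GL'} {d : ℕ} (hs : QS G d) (hpa : Partners G d)
    {a : End'} (ha : Qd G d a) (hS : S ≤ Stb G d a) (hco : (Nat.card G).Coprime (Nat.card S))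
    (hodd : Odd (Nat.card S)) :
    ∃ x y, Con G d a x ∧ Qd G d x ∧ Qd G d y ∧ IsPair x y ∧ ∀ s ∈ S, cj s x = x ∧ cj s y = y := by
  haveI : Finite End' := Module.finite_of_finite k
  haveI : Group.IsSolvable S := OddFT.odd_solvable_of_no_min OddFT.no_minSimple hodd
  set X := GP G d a with hX
  have hSX : S ≤ Subgroup.normalizer (X : Set GL') := fun s hs' => conjBy_eq (GP_normal ha (hS hs'))
  have hXX : X ≤ Stb G d a := GP_le_Stb hs hpa ha
  -- conjugating an orbit relation
  have moveRel : ∀ {g s : GL'} {u v : End'}, s ∈ S → g ∈ X → cj g u = v →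
      ∃ g' ∈ X, cj g' (cj s u) = cj s v := fun {g s u v} hs' hg e =>
    ⟨s * g * s⁻¹, (Subgroup.mem_normalizer_iff.1 (hSX hs') g).1 hg, by
      rw [cj_comp, inv_mul_cancel_right, ← cj_comp, e]⟩
  let T : Subgroup GL' :=
    { carrier := {s | s ∈ S ∧ ∃ g ∈ X, cj g a = cj s a}
      one_mem' := ⟨one_mem _, 1, one_mem _, rfl⟩
      mul_mem' := by
        rintro s t ⟨hs', g, hg, e⟩ ⟨ht, g', hg', e'⟩
        refine ⟨mul_mem hs' ht, ?_⟩
        obtain ⟨g'', hg'', e''⟩ := moveRel hs' hg' e'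
        exact ⟨g'' * g, mul_mem hg'' hg, by rw [← cj_comp, e, e'', cj_comp]⟩
      inv_mem' := by
        rintro s ⟨hs', g, hg, e⟩
        refine ⟨inv_mem hs', ?_⟩
        obtain ⟨g', hg', e'⟩ := moveRel (inv_mem hs') hg e
        rw [cj_inv] at e'
        exact ⟨g'⁻¹, inv_mem hg', by conv_lhs => rw [← e']
                                     rw [cj_inv]⟩ }
  have htr : ∀ s ∈ S, ∃ g ∈ X, cj g a = cj s a := by
    intro s hs'
    by_contra hno
    have hnT : s ∉ T := fun h => hno h.2
    have con : ∀ t ∈ S, Con G d a (cj t a) := fun t ht =>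
      ((hS ht).2 a ha).2 Relation.ReflTransGen.refl
    have h2 : s * s ∈ T := by
      refine ⟨mul_mem hs' hs', ?_⟩
      rcases two_orbits hs hpa ha Relation.ReflTransGen.refl (con s hs') (con _ (mul_mem hs' hs')) with
        h | h | h
      · exact absurd h hno
      · obtain ⟨g, hg, e⟩ := h
        obtain ⟨g', hg', e'⟩ := moveRel (inv_mem hs') hg e
        rw [cj_inv, cj_comp, inv_mul_cancel_left] at e'
        exact absurd ⟨g', hg', e'⟩ hno
      · exact h
    refine hnT ?_
    obtain ⟨j, hj⟩ := (hodd.of_dvd_nat (show orderOf s ∣ Nat.card S by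
      rw [← Subgroup.orderOf_mk s hs']; exact orderOf_dvd_natCard _))
    have e : s = (s * s) ^ (j + 1) := by
      rw [← sq, ← pow_mul, show 2 * (j + 1) = orderOf s + 1 by omega, pow_succ, pow_orderOf_eq_one, one_mul]
    rw [e]
    exact T.pow_mem h2 _
  have hcoX : (Nat.card X).Coprime (Nat.card S) :=
    hco.coprime_dvd_left (Subgroup.card_dvd_of_le (GP_le_self a))
  obtain ⟨g, hg, hfix⟩ := exists_fixed conjPerm X S hSX hcoX (Or.inr inferInstance) a
    (fun s hs' => by simpa [conjPerm_apply] using htr s hs')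
  set x := cj g a with hx
  have hcx : Con G d a x := ((hXX hg).2 a ha).2 Relation.ReflTransGen.refl
  have qx : Qd G d x := hcx.qd ha
  have hsx : ∀ s ∈ S, cj s x = x := fun s hs' => hfix s hs'
  obtain ⟨y, qy, hxy⟩ := exists_pair hs hpa qx
  have hSU : S ≤ Subgroup.normalizer (flagOf G x : Set GL') := by
    refine normal_le_normalizer fun s hs' u hu => flagOf_conj (hS hs').1 one_ne_zero ?_ hu
    rw [hsx s hs', one_smul]
  have hU : Group.IsSolvable (flagOf G x) := by
    haveI := (flagOf_pGroup G x).isNilpotent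
    infer_instance
  obtain ⟨u, hu, hyfix⟩ := exists_fixed conjPerm (flagOf G x) S hSU
    (hco.coprime_dvd_left (Subgroup.card_dvd_of_le inf_le_left)) (Or.inl hU) y (fun s hs' => by
      obtain ⟨h2, h3, -⟩ := small_ne hp5
      simp only [conjPerm_apply]
      refine inverse_transitive h2 h3 qx qy (qy.cj (hS hs').1) hxy ?_
      exact ⟨qx.sq, by rw [← cj_mul, hxy.yy, map_zero],
        by conv_lhs => rw [← hsx s hs']
           rw [← cj_mul, ← cj_mul, hxy.xyx, map_neg, hsx s hs'],
        by conv_lhs => rw [← hsx s hs']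
           rw [← cj_mul, ← cj_mul, hxy.yxy, map_neg]⟩)
  have hux : cj u x = x := flagOf_fix hu
  refine ⟨x, cj u y, hcx, qx, qy.cj (Subgroup.le_normalizer hu.1), ⟨qx.sq, by rw [← cj_mul, hxy.yy, map_zero],
    by conv_lhs => rw [← hux]
       rw [← cj_mul, ← cj_mul, hxy.xyx, map_neg, hux],
    by conv_lhs => rw [← hux]
       rw [← cj_mul, ← cj_mul, hxy.yxy, map_neg]⟩, fun s hs' => ⟨hsx s hs', hyfix s hs'⟩⟩

theorem commute_of_cj {s : GL'} {x : End'} (h : cj s x = x) : Commute (s : End') x := by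
  have := congrArg (fun t => t * (s : End')) h
  simpa [cj_apply, mul_assoc, Commute, SemiconjBy] using this

/-- The inner theorem for a space in the lowest universe. -/
theorem involves_fixed_core (hp5 : 5 ≤ p) (G R : Subgroup GL') (hnorm : R ≤ Subgroup.normalizer (G : Set GL'))
    (hco : (Nat.card G).Coprime (Nat.card R)) (hcore : pCore p G = ⊥) {σ : GL'} (hσ : σ ∈ G)
    (hq : IsQuadraticOn σ) :
    Involves (Matrix.ProjectiveSpecialLinearGroup (Fin 2) k)
      ↥(G ⊓ Subgroup.centralizer (R : Set GL')) := by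
  classical
  haveI : Finite End' := Module.finite_of_finite k
  obtain ⟨h2, h3, hc3⟩ := small_ne hp5
  have hex : ∃ n, ∃ x : End', x * x = 0 ∧ x ≠ 0 ∧ InFam G x ∧ Module.finrank k (LinearMap.range x) = n :=
    ⟨_, _, hq.1, hq.2, inFam_of_mem hσ hq.1, rfl⟩
  set d := Nat.find hex
  have hs : QS G d := ⟨dickson_holds (by rw [ZMod.ringChar_zmod_n]; omega) hc3, h2, hc3,
    fun x hx hx0 hm => Nat.find_le ⟨x, hx, hx0, hm, rfl⟩⟩
  obtain ⟨a, ha1, ha2, ha3, ha4⟩ := Nat.find_spec hex
  have ha : Qd G d a := ⟨ha1, ha2, ha3, ha4⟩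
  have hpa : Partners G d := partners_of_core hs hcore
  obtain ⟨b, hb, hab⟩ := exists_pair hs hpa ha
  have hoddR := odd_of_coprime_pair hp5 hco ha hb hab
  set S := R ⊓ Stb G d a with hS
  obtain ⟨x, y, hcx, qx, qy, hxy, hfix⟩ := exists_fixed_pair hp5 hs hpa ha (S := S) inf_le_right
    (hco.coprime_dvd_right (Subgroup.card_dvd_of_le inf_le_left))
    (hoddR.of_dvd_nat (Subgroup.card_dvd_of_le inf_le_left))
  set Φ : Matrix.SpecialLinearGroup (Fin 2) k →* GL' := toGL hxy with hΦ
  have hcy : Con G d a y := hcx.trans (Con.of_opp qx qy (opp_of_pair hs qx qy hxy))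
  have hΦX : ∀ q, Φ q ∈ GP G d a := by
    refine toGL_mem hxy (fun g r hg => Rg_le_GP hcx ?_) fun g r hg => Rg_le_GP hcy ?_
    · rw [mem_Rg, hg, add_sub_cancel_left]; exact Submodule.smul_mem _ r qx.self_mem
    · rw [mem_Rg, hg, add_sub_cancel_left]; exact Submodule.smul_mem _ r qy.self_mem
  have hΦS : ∀ s ∈ S, ∀ q, Commute s (Φ q) := fun s hs' q => Units.ext
    (toGL_commute hxy (commute_of_cj (hfix s hs').1) (commute_of_cj (hfix s hs').2) q).eq
  let I := R ⧸ S.subgroupOf R
  haveI : Finite I := inferInstance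
  letI : Fintype I := Fintype.ofFinite I
  let rep : I → GL' := fun i => ((Quotient.out i : R) : GL')
  let ϕ : I → Matrix.SpecialLinearGroup (Fin 2) k →* GL' := fun i =>
    (MulAut.conj (rep i)).toMonoidHom.comp Φ
  have hrepR : ∀ i, rep i ∈ R := fun i => (Quotient.out i : R).2
  have hϕGP : ∀ i q, ϕ i q ∈ GP G d (cj (rep i) a) := by
    intro i q
    have hn := hnorm (hrepR i)
    have hle : GP G d a ≤ (GP G d (cj (rep i) a)).comap (MulAut.conj (rep i)).toMonoidHom :=
      GP_le fun c hc g hg => Rg_le_GP (hc.cj hn) (conjBy_Rg (hc.qd ha).sq hn ▸ ⟨g, hg, rfl⟩)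
    exact hle (hΦX q)
  have hϕcomm : Pairwise fun i j => ∀ q q', Commute (ϕ i q) (ϕ j q') := by
    intro i j hij q q'
    have hn := fun i => hnorm (hrepR i)
    refine (Subgroup.mem_centralizer_iff.1 ((Subgroup.commutator_eq_bot_iff_le_centralizer.1
      (GP_commute hs hpa (ha.cj (hn i)) (ha.cj (hn j)) fun hcon => hij ?_)) (hϕGP i q)) _ (hϕGP j q')).symm
    have h1 := hcon.cj (inv_mem (hn i))
    rw [cj_inv, cj_comp] at h1
    have hmem : (rep i)⁻¹ * rep j ∈ S :=
      ⟨R.mul_mem (R.inv_mem (hrepR i)) (hrepR j), mem_Stb (Subgroup.mul_mem _ (Subgroup.inv_mem _ (hn i)) (hn j))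
        Relation.ReflTransGen.refl h1⟩
    rw [← Quotient.out_eq i, ← Quotient.out_eq j]
    exact QuotientGroup.eq.2 hmem
  let Δ : Matrix.SpecialLinearGroup (Fin 2) k →* GL' :=
    (MonoidHom.noncommPiCoprod ϕ hϕcomm).comp (MonoidHom.pi fun _ => MonoidHom.id _)
  have hΔ : ∀ q, Δ q = Finset.univ.noncommProd (fun i => ϕ i q)
      (fun i _ j _ hij => hϕcomm hij q q) := fun q => rfl
  have hΔG : ∀ q, Δ q ∈ G := fun q => by
    rw [hΔ]
    exact Subgroup.noncommProd_mem _ _ fun i _ => GP_le_self _ (hϕGP i q)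
  have hΔC : ∀ q, Δ q ∈ Subgroup.centralizer (R : Set GL') := by
    intro q
    rw [Subgroup.mem_centralizer_iff]
    intro s hs'
    have h1 : (MulAut.conj s).toMonoidHom (Δ q) = Δ q := by
      rw [hΔ]
      refine (Finset.map_noncommProd _ _ _ (MulAut.conj s).toMonoidHom).trans ?_
      let e : I ≃ I := MulAction.toPerm (⟨s, hs'⟩ : R)
      have he : ∀ i, (MulAut.conj s).toMonoidHom (ϕ i q) = ϕ (e i) q := by
        intro i
        have hq' : (⟦(⟨s, hs'⟩ : R) * Quotient.out i⟧ : I) = e i := by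
          conv_rhs => rw [← Quotient.out_eq i]
          rfl
        have ht' : (Quotient.out (e i))⁻¹ * ((⟨s, hs'⟩ : R) * Quotient.out i) ∈ S.subgroupOf R :=
          QuotientGroup.eq.1 ((Quotient.out_eq (e i)).trans hq'.symm)
        have ht : (rep (e i))⁻¹ * (s * rep i) ∈ S := ht'
        have hc := (hΦS _ ht q).eq
        have he' : s * rep i = rep (e i) * ((rep (e i))⁻¹ * (s * rep i)) := by group
        change s * (rep i * Φ q * (rep i)⁻¹) * s⁻¹ = rep (e i) * Φ q * (rep (e i))⁻¹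
        calc _ = (s * rep i) * Φ q * (s * rep i)⁻¹ := by group
          _ = rep (e i) * (((rep (e i))⁻¹ * (s * rep i)) * Φ q) * ((rep (e i))⁻¹ * (s * rep i))⁻¹ *
              (rep (e i))⁻¹ := by group
          _ = _ := by rw [hc]; group
      simp only [he]
      unfold Finset.noncommProd
      simp only [show (fun i => ϕ (e i) q) = (fun i => ϕ i q) ∘ e from rfl, ← Multiset.map_map]
      congr 2
      exact congrArg Finset.val (Finset.map_univ_equiv e)
    change s * Δ q * s⁻¹ = Δ q at h1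
    exact mul_inv_eq_iff_eq_mul.1 h1
  have hker : Δ.ker ≤ Subgroup.center (Matrix.SpecialLinearGroup (Fin 2) k) := by
    intro q hq'
    rw [Subgroup.mem_center_iff]
    intro q'
    obtain ⟨i⟩ : Nonempty I := ⟨⟦1⟧⟩
    have h1 := hΔ q
    rw [MonoidHom.mem_ker.1 hq'] at h1
    have huniv : (Finset.univ : Finset I) = insert i (Finset.univ.erase i) :=
      (Finset.insert_erase (Finset.mem_univ i)).symm
    erw [Finset.noncommProd_congr huniv (fun _ _ => rfl),
      Finset.noncommProd_insert_of_notMem _ _ _ _ (Finset.notMem_erase _ _)] at h1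
    have hcom : Commute (ϕ i q') (ϕ i q) := by
      rw [eq_inv_of_mul_eq_one_left h1.symm]
      exact (Finset.noncommProd_commute _ _ _ _ fun j hj =>
        hϕcomm (Finset.ne_of_mem_erase hj).symm q' q).inv_right
    have hinj : Function.Injective (ϕ i) := (MulAut.conj (rep i)).injective.comp (toGL_injective hxy qx.ne)
    exact hinj (by rw [map_mul, map_mul]; exact hcom.eq)
  let Δ' : Matrix.SpecialLinearGroup (Fin 2) k →* ↥(G ⊓ Subgroup.centralizer (R : Set GL')) :=
    Δ.codRestrict _ fun q => ⟨hΔG q, hΔC q⟩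
  let π := QuotientGroup.mk' (Subgroup.center (Matrix.SpecialLinearGroup (Fin 2) k))
  have hsurj : Function.Surjective Δ'.rangeRestrict := Δ'.rangeRestrict_surjective
  have hle : Δ'.rangeRestrict.ker ≤ π.ker := by
    intro q hq'
    rw [QuotientGroup.ker_mk']
    exact hker (congrArg Subtype.val (congrArg Subtype.val (MonoidHom.mem_ker.1 hq')))
  refine Fusion.involves_of_surjective (Δ'.rangeRestrict.liftOfSurjective hsurj ⟨π, hle⟩) fun z => ?_
  obtain ⟨q, rfl⟩ := QuotientGroup.mk'_surjective _ z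
  exact ⟨Δ'.rangeRestrict q, MonoidHom.liftOfRightInverse_comp_apply _ _ _ _ q⟩

end Cfsg.Agent.EquivQuad
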